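import Cfsg.Agent.Lib.PS4.Run
import Cfsg.Agent.Lib.SNL.Def

/-! The numerical part of the Praeger–Saxl bound. -/

set_option autoImplicit false

namespace Cfsg.Lib.PS4

open Cfsg.Lib.SNL (Kill)

universe u v

theorem alg {n D : ℕ} (hn : 15 ≤ n) (h : Bad n D) : n + 1 ≤ D ^ 2 := by
  obtain ⟨ρ, k, M, T, e, h1, m1, k1, k2, t1, t2, a, b, c⟩ := h
  by_contra! l
  have l : D ^ 2 ≤ n := by omega
  by_cases r : n ≤ 3 * ρ
  · have t : 4 * n ^ 2 ≤ 9 * T := by
      by_cases r' : 4 * n ≤ 9 * ρ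
      · nlinarith
      · zify at *
        nlinarith [mul_nonneg (sub_nonneg.2 r) (by linarith : (0 : ℤ) ≤ 2 * n - 3 * ρ)]
    have p : n * (16 * T) ≤ n * (2 * n + k) ^ 2 := by
      have := Nat.mul_le_mul_right (8 * T) a
      have := Nat.mul_le_mul_left D b
      have := Nat.mul_le_mul_right ((2 * n + k) ^ 2) l
      nlinarith
    have p := Nat.le_of_mul_le_mul_left p (by omega)
    have q : 8 * n ≤ 3 * (2 * n + k) := by
      by_contra! q
      nlinarith [Nat.pow_le_pow_left q.le 2, Nat.mul_lt_mul'' q q]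
    have s : (2 * n + k) ^ 2 ≤ (3 * n) ^ 2 := Nat.pow_le_pow_left (by omega) 2
    have w : n ^ 2 * (64 * n) ≤ n ^ 2 * (243 * D) := by
      have := Nat.mul_le_mul (by omega : 2 * n ≤ 3 * k) t
      have := Nat.mul_le_mul_left D s
      nlinarith
    have w := Nat.pow_le_pow_left (Nat.le_of_mul_le_mul_left w (by positivity)) 2
    nlinarith
  have key : ∀ E, 8 * M * T ≤ E * (2 * n + M) ^ 2 → ρ ≤ E := fun E h => by
    have s : (2 * n + M) ^ 2 ≤ (4 * M) ^ 2 := Nat.pow_le_pow_left (by omega) 2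
    have := Nat.mul_le_mul_left E s
    have := Nat.mul_le_mul_left (8 * M) t2
    exact Nat.le_of_mul_le_mul_left (c := 16 * M ^ 2) (by nlinarith) (by positivity)
  rcases c with ⟨-, c⟩ | ⟨c1, c⟩
  · have := Nat.pow_le_pow_left (key _ c) 2
    omega
  · obtain ⟨ρ, rfl⟩ : ∃ x, ρ = x + 1 := ⟨ρ - 1, by omega⟩
    have c := key _ c
    rw [Nat.add_sub_cancel] at c
    have := Nat.div_mul_le_self ρ k
    have p := Nat.mul_le_mul a c
    have q : (ρ / k + 1) * k ≤ 2 * ρ := by nlinarith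
    have := Nat.mul_le_mul q l
    nlinarith

theorem nbad_sq {N d : ℕ} (h : 16 ≤ N) (hd : (d - 1) ^ 2 < N) (D : ℕ) (l : D < d) : ¬ Bad (N - 1) D := fun e => by
  have := alg (by omega) e
  have := Nat.pow_le_pow_left (by omega : D ≤ d - 1) 2
  omega

/-- Boolean test for `¬ Bad n D'`, `D' ≤ D`. -/
def nbad (n D : ℕ) : Bool := (List.range (n + 1)).all fun ρ => decide (ρ ^ 2 < n + 1) || (List.range (n + 1)).all fun k =>
  decide (k * D < 2 * n) || decide (D * (2 * n + k) ^ 2 < 8 * k * max (n * (ρ + 1)) (2 * (n + 1 - ρ) * ρ)) ||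
    (decide (k < n + 1 - ρ) && (decide (ρ < k + 1) || decide (((ρ - 1) / k + 1) * D * (2 * n + (n + 1 - ρ)) ^ 2 <
      8 * (n + 1 - ρ) * max (n * (ρ + 1)) (2 * (n + 1 - ρ) * ρ))))

theorem nbad_sound {n D D' : ℕ} (h : nbad n D = true) (l : D' ≤ D) : ¬ Bad n D' := by
  rintro ⟨ρ, k, M, T, e, h1, m1, k1, k2, t1, t2, a, b, c⟩
  simp only [nbad, List.all_eq_true, List.mem_range, Bool.or_eq_true, Bool.and_eq_true, decide_eq_true_eq] at h
  have h := (h ρ (by omega)).resolve_left (by omega) k (by omega)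
  rw [show n + 1 - ρ = M by omega] at h
  have t := max_le t1 t2
  rcases h with (h | h) | ⟨h1, h⟩
  · exact (a.trans (Nat.mul_le_mul_left k l)).not_gt h
  · exact (((Nat.mul_le_mul_left _ t).trans b).trans (Nat.mul_le_mul_right _ l)).not_gt h
  · obtain ⟨c1, c⟩ := c.resolve_left fun c => c.1.not_gt h1
    exact (((Nat.mul_le_mul_left _ t).trans c).trans
      (Nat.mul_le_mul_right _ (Nat.mul_le_mul_left _ l))).not_gt (h.resolve_left c1.not_gt)

theorem Bnd.mono {N a w w' : ℕ} {d c : ℕ → ℕ} (h : Bnd.{u, v} N d c a w) (l : w ≤ w') : Bnd.{u, v} N d c a w' :=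
  fun G X _ _ _ _ _ A h1 h2 h3 => (h G X A h1 h2 h3).trans l

/-- The hypothesis of `core`. -/
def Good (n : ℕ) : Prop := ∃ R, (∃ r ≤ R, Kill n r) ∧ (∀ i < R, ∃ w, OKU.{u, v} (n - i) w ∧ n.descFactorial i * w ≤ 4 ^ n) ∧
  ∀ i, i + 1 < R → ∃ w, OKI.{u, v} (n - i) w ∧ n.descFactorial i * w ≤ 4 ^ n

/-- Small primes. -/
def ps : List ℕ := [2, 3, 5, 7, 11, 13, 17, 19, 23, 29, 31, 37, 41, 43, 47, 53, 59, 61, 67, 71, 73, 79, 83, 89, 97, 101, 103,
  107, 109, 113, 127, 131, 137, 139, 149, 151, 157, 163, 167, 173, 179, 181, 191, 193, 197, 199, 211, 223, 227, 229, 233, 239,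
  241, 251, 257]

theorem ps_prime : ∀ p ∈ ps, p.Prime := by
  simp only [ps, List.forall_mem_cons]; norm_num

/-- Search for Miller data. -/
def kl (n R : ℕ) : Bool := ps.any fun p => decide (n - (n - 3) / p * p ≤ R) && decide (1 ≤ (n - 3) / p) &&
  decide ((n - 3) / p < p) && decide ((n - 3) / p < n - (n - 3) / p * p) && (decide ((n - 3) / p = 1) ||
    (decide ((n - 3) / p = 2) && decide (4 ≤ n - (n - 3) / p * p)) || decide (5 ≤ n - (n - 3) / p * p))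

theorem kl_sound {n R : ℕ} (h3 : 3 ≤ n) (h : kl n R = true) : ∃ r ≤ R, Kill n r := by
  simp only [kl, List.any_eq_true, Bool.or_eq_true, Bool.and_eq_true, decide_eq_true_eq] at h
  obtain ⟨p, hp, ⟨⟨⟨a, b⟩, c⟩, d⟩, e⟩ := h
  have := Nat.div_mul_le_self (n - 3) p
  exact ⟨_, a, .inr (.inr (.inr ⟨_, p, ps_prime p hp, b, c, by omega, d, by omega, or_assoc.1 e⟩))⟩

theorem kill_gen {n p : ℕ} (hp : p.Prime) (h1 : n ≤ p ^ 2) (h2 : 4 * (p + 1) < n) : ∃ r ≤ p + n / p + 1, Kill n r := by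
  obtain ⟨k, hk⟩ : ∃ k, k = (n - 1) / (p + 1) := ⟨_, rfl⟩
  have a : k * (p + 1) ≤ n - 1 := hk ▸ Nat.div_mul_le_self _ _
  have b : n - 1 < (k + 1) * (p + 1) := hk ▸ (Nat.div_lt_iff_lt_mul p.succ_pos).1 (Nat.lt_succ_self _)
  have c : 4 ≤ k := hk ▸ (Nat.le_div_iff_mul_le p.succ_pos).2 (by omega)
  have d : k ≤ n / p := (Nat.le_div_iff_mul_le hp.pos).2 (by rw [Nat.mul_succ] at a; omega)
  have e : k < p := by
    by_contra! e
    have := Nat.mul_le_mul_right (p + 1) e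
    rw [Nat.mul_succ p, ← sq] at this; omega
  rw [Nat.mul_succ] at a
  rw [Nat.succ_mul, Nat.mul_succ] at b
  exact ⟨n - k * p, by omega, .inr (.inr (.inr ⟨k, p, hp, by omega, e, by omega, by omega, by omega, by omega⟩))⟩

/-- Forces the evaluation of `x`. -/
def frcB (x : ℕ) (k : ℕ → Bool) : Bool := match x with
  | 0 => k 0
  | n + 1 => k (n + 1)

theorem frcB_eq (x : ℕ) (k : ℕ → Bool) : frcB x k = k x := by cases x <;> rfl

/-- The test for an interval of degrees. -/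
def chk (n1 n2 R d : ℕ) : Bool := decide (R + 15 ≤ n1) && decide ((d - 1) ^ 2 < n1 + 1 - R) &&
  frcB (bd (n1 + 1 - R) n2 (fun _ => d) (fun _ => 1) (fun _ => 2) 0)
    (fun w => decide (w ≠ 0) && decide (n2 ^ (R - 1) * w ≤ 4 ^ n1)) &&
  frcB (bd (n1 + 1 - R) n2 (fun s => 2 * (s + 3) / 3) (fun _ => 1) (fun _ => 2) (n2 * (n2 - 1)))
    (fun w => decide (w ≠ 0) && decide (n2 ^ (R - 1) * w ≤ 4 ^ n1))

theorem chk_sound {n1 n2 R d n : ℕ} (h : chk n1 n2 R d = true) (h1 : n1 ≤ n) (h2 : n ≤ n2) (hk : ∃ r ≤ R, Kill n r) :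
    Good.{u, v} n := by
  simp only [chk, frcB_eq, Bool.and_eq_true, decide_eq_true_eq] at h
  obtain ⟨⟨⟨a, b⟩, c, c'⟩, e, e'⟩ := h
  have key : ∀ i < R, ∀ w, n2 ^ (R - 1) * w ≤ 4 ^ n1 → n.descFactorial i * w ≤ 4 ^ n := fun i l w h =>
    ((Nat.mul_le_mul_right w ((n.descFactorial_le_pow i).trans ((Nat.pow_le_pow_left h2 i).trans
      (Nat.pow_le_pow_right (by omega) (by omega))))).trans h).trans (Nat.pow_le_pow_right (by omega) h1)
  refine ⟨R, hk, fun i l => ⟨_, ⟨d, nbad_sq (by omega) (by omega), bnd_bd (by omega) (by omega) (fun _ _ => le_rfl)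
    (fun _ _ => by omega) le_rfl c⟩, key i l _ c'⟩, fun i l => ⟨_, fun b _ _ => bnd_bd (by omega) (by omega)
      (fun _ _ => by omega) (fun _ _ => by omega) (Nat.mul_le_mul (by omega) (by omega)) e, key i (by omega) _ e'⟩⟩

/-- Bounds for the transitivity of degrees `22, …, 85`. -/
def rt (n : ℕ) : ℕ := [0, 0, 0, 0, 0, 0, 0, 0, 0, 0, 0, 0, 0, 0, 0, 0, 0, 0, 0, 0, 0, 0, 3, 4, 5, 5, 3, 4, 5, 6, 4, 5, 3, 4,
  3, 4, 5, 6, 4, 5, 3, 4, 4, 5, 3, 4, 3, 4, 5, 5, 3, 4, 5, 6, 7, 8, 3, 4, 5, 6, 7, 6, 3, 4, 3, 4, 4, 5, 6, 7, 3, 4, 5, 5, 3, 4,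
  3, 4, 4, 5, 6, 5, 3, 4, 5, 6].getD n 0

/-- Lower bounds for `dd`. -/
def dt (n : ℕ) : ℕ := [0, 0, 0, 0, 0, 0, 0, 0, 0, 0, 0, 0, 0, 0, 0, 5, 5, 6, 6, 6, 6, 6, 6, 6, 6, 6, 7, 7, 7, 7, 7, 7, 7, 8,
  8, 7, 7, 8, 8, 8, 8, 8, 8, 8, 8, 8, 8, 8, 8, 8, 9, 9, 9, 9, 9, 9, 8, 8, 8, 8, 8, 8, 8, 8, 8, 9, 9, 9, 9, 9, 9, 9, 9, 9, 9, 9,
  9, 9, 9, 9, 9, 9, 10, 10, 10, 10].getD n 0

/-- The test for one small degree. -/
def sm (N : ℕ) : Bool := (decide ((dt N - 1) ^ 2 < N) || nbad (N - 1) (dt N - 1)) &&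
  frcB (bd N N (fun _ => dt N) (fun _ => 1) (fun _ => 2) 0) (fun w => decide (w ≠ 0) && (List.range 8).all fun i =>
    decide (rt (N + i) ≤ i) || decide ((N + i).descFactorial i * w ≤ 4 ^ (N + i))) &&
  (List.range N).all fun b => decide (b < 2) || decide (N < 2 * b + 1) ||
    frcB (bd N N (fun s => max (2 * b) (s + 3 - b)) (fun s => b - 1 - s) (fun s => N - s) (N * (N - 1)))
      fun w => decide (w ≠ 0) && (List.range 8).all fun i =>
        decide (rt (N + i) ≤ i + 1) || decide ((N + i).descFactorial i * w ≤ 4 ^ (N + i))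

theorem sm_all : (List.range 66).all (fun N => sm (N + 20)) = true := by decide +kernel

theorem rt_all : (List.range 64).all (fun n => kl (n + 22) (rt (n + 22)) && decide (rt (n + 22) ≤ 8) &&
    decide (rt (n + 22) ≤ n + 3)) = true := by decide +kernel

theorem good_small {n : ℕ} (h1 : 22 ≤ n) (h2 : n ≤ 85) : Good.{u, v} n := by
  have r := List.all_eq_true.1 rt_all (n - 22) (List.mem_range.2 (by omega))
  rw [Nat.sub_add_cancel h1] at r
  simp only [Bool.and_eq_true, decide_eq_true_eq] at r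
  obtain ⟨⟨r1, r2⟩, r3⟩ := r
  have s : ∀ i < rt n, sm (n - i) = true := fun i l => by
    have := List.all_eq_true.1 sm_all (n - i - 20) (List.mem_range.2 (by omega))
    rwa [Nat.sub_add_cancel (by omega)] at this
  simp only [sm, frcB_eq, List.all_eq_true, List.mem_range, Bool.or_eq_true, Bool.and_eq_true, decide_eq_true_eq] at s
  refine ⟨rt n, kl_sound (by omega) r1, fun i l => ?_, fun i l => ⟨4 ^ n / n.descFactorial i, fun b b1 b2 => ?_,
    Nat.mul_div_le _ _⟩⟩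
  · obtain ⟨⟨a, c, c'⟩, -⟩ := s i l
    have := c' i (by omega)
    rw [Nat.sub_add_cancel (by omega)] at this
    exact ⟨_, ⟨_, fun D hD => a.elim (fun a => nbad_sq (by omega) a D hD) fun a => nbad_sound a (by omega),
      bnd_bd le_rfl le_rfl (fun _ _ => le_rfl) (fun _ _ => by omega) le_rfl c⟩, this.resolve_left (by omega)⟩
  · obtain ⟨c, c'⟩ := ((s i (by omega)).2 b (by omega)).resolve_left (by omega)
    have := c' i (by omega)
    rw [Nat.sub_add_cancel (by omega)] at this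
    refine (bnd_bd le_rfl le_rfl (fun _ _ => le_rfl) (fun _ _ => ⟨by omega, le_rfl⟩) le_rfl c).mono
      ((Nat.le_div_iff_mul_le (Nat.descFactorial_pos.2 (by omega))).2 ?_)
    rw [mul_comm]; exact this.resolve_left (by omega)

end Cfsg.Lib.PS4
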